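import Mathlib

/-!
# Relative assassin, intrinsic algebraic form (helper57)

`SocAt I q M` : the `B`-module `M` has a "socle at `q` modulo `I`": there is `m : M` which is not
in `I M` locally at `q`, but `q m ⊆ I M` locally at `q`.  For `I = (q ∩ A) B` (`fibI A q`) this says
that `q` is an associated point of the fibre of `M` over `q ∩ A`.
-/

set_option autoImplicit false
universe u

namespace Groth.Agent.H57.RelAssGen

/-- Intrinsic socle condition at a prime `q` modulo an ideal `I`. -/
def SocAt {B : Type*} [CommRing B] (I q : Ideal B) (M : Type*) [AddCommGroup M] [Module B M] :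
    Prop :=
  ∃ m : M, (∀ s : B, s ∉ q → s • m ∉ I • (⊤ : Submodule B M)) ∧
    ∀ b ∈ q, ∃ s : B, s ∉ q ∧ (s * b) • m ∈ I • (⊤ : Submodule B M)

/-- The ideal `(q ∩ A) B` of the fibre through `q`. -/
def fibI (A : Type*) {B : Type*} [CommRing A] [CommRing B] [Algebra A B] (q : Ideal B) : Ideal B :=
  (q.comap (algebraMap A B)).map (algebraMap A B)

end Groth.Agent.H57.RelAssGen
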