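import Mathlib
import Groth.Agent.S0389
import Groth.Agent.H57.RelAssGen.Defs
import Groth.Agent.H75.RA_TL
import Groth.Agent.H26.RA_G
import Groth.Agent.H51.RA_B1

/-!
# Glue file for the relative-assassin-near-the-generic-point cluster (S1368, S1369, S1446)

The algebra pieces were supplied by the squad (helper75: (TL); helper58: (NOE), (ASS), (RED);
helper83: (B2a), (B2b); helper51: (B1); helper26: (G1), (G2)).  This file only restates the three
statements used by the chart translation under one namespace.
-/

set_option autoImplicit false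
universe u

namespace Groth.Agent.H57.RelAssGen

/-- (TL) the stalk form of the socle condition is the intrinsic one. -/
theorem exists_socle_iff_socAt {B : Type u} [CommRing B] (q : Ideal B) [q.IsPrime] (I : Ideal B)
    (Bq : Type u) [CommRing Bq] [Algebra B Bq] [IsLocalization.AtPrime Bq q] [IsLocalRing Bq]
    {M N : Type u} [AddCommGroup M] [Module B M] [AddCommGroup N] [Module B N] [Module Bq N]
    [IsScalarTower B Bq N] (l : M →ₗ[B] N) [IsLocalizedModule q.primeCompl l] :
    (∃ n : N, n ∉ (I.map (algebraMap B Bq)) • (⊤ : Submodule Bq N) ∧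
      ∀ b ∈ IsLocalRing.maximalIdeal Bq,
        b • n ∈ (I.map (algebraMap B Bq)) • (⊤ : Submodule Bq N)) ↔
    SocAt I q M :=
  Groth.Agent.H75.RA_TL.exists_socle_iff_socAt q I Bq l

section Domain

variable {A B M : Type u} [CommRing A] [IsDomain A] [CommRing B] [Algebra A B]
  [Algebra.FiniteType A B] [AddCommGroup M] [Module B M] [Module A M] [IsScalarTower A B M]
  [Module.Finite B M]

/-- (B1) if no associated point of the generic fibre lies in `V(J)`, the same holds for the
fibres over a nonempty open. -/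
theorem core_avoid (J : Ideal B)
    (h : ∀ q : Ideal B, q.IsPrime → q.comap (algebraMap A B) = ⊥ → SocAt (fibI A q) q M →
      ¬ J ≤ q) :
    ∃ a : A, a ≠ 0 ∧ ∀ q : Ideal B, q.IsPrime → algebraMap A B a ∉ q →
      SocAt (fibI A q) q M → ¬ J ≤ q :=
  Groth.Agent.H51.RA_B1.core_avoid J h

end Domain

section General

variable {A₀ B M : Type u} [CommRing A₀] [CommRing B] [Algebra A₀ B]
  [Algebra.FiniteType A₀ B] [AddCommGroup M] [Module B M] [Module A₀ M] [IsScalarTower A₀ B M]
  [Module.Finite B M]

/-- (G1) general base: `p₀` a prime of the base. -/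
theorem gen_avoid (p₀ : Ideal A₀) [p₀.IsPrime] (J : Ideal B)
    (h : ∀ q : Ideal B, q.IsPrime → q.comap (algebraMap A₀ B) = p₀ → SocAt (fibI A₀ q) q M →
      ¬ J ≤ q) :
    ∃ a : A₀, a ∉ p₀ ∧ ∀ q : Ideal B, q.IsPrime → p₀ ≤ q.comap (algebraMap A₀ B) →
      algebraMap A₀ B a ∉ q → SocAt (fibI A₀ q) q M → ¬ J ≤ q :=
  Groth.Agent.H26.RA_G.gen_avoid_of (fun J h => core_avoid J h) p₀ J h

end General

end Groth.Agent.H57.RelAssGen
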