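import Mathlib
import Groth.Agent.H57.RelAssBC
import Groth.Agent.H57.GenFlatSch
import Groth.Agent.H8.Coh
import Groth.Agent.H57.RelAssGen.Defs
import Groth.Agent.H57.RelAssGen.Stmts

/-!
# Chart translation of the relative assassin (helper57)
-/

set_option autoImplicit false
set_option linter.style.haveILetI false

universe u

open AlgebraicGeometry CategoryTheory Limits TopologicalSpace IsLocalRing

namespace Groth.Agent.H57.RelAssGen

open Groth.Agent.H7.AssTensorFlat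

variable {X Y : Scheme.{u}}

/-- The relative assassin in terms of `FibAss`, at an arbitrary point. -/
theorem mem_relAss_iff_fibAss (f : X ⟶ Y) [LocallyOfFiniteType f] (F : X.Modules) (x : X) :
    x ∈ MoreMor.relAss f F ↔ FibAss f F x := by
  have hx : x ∈ Set.range (f.fiberι (f x)) := by
    rw [Scheme.Hom.range_fiberι]; rfl
  obtain ⟨a, ha⟩ := hx
  have := Groth.Agent.H57.RelAssBC.mem_relAss_iff f F (f x) a
  rwa [ha] at this

section Points

variable {W : X.Opens} (hW : IsAffineOpen W)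

include hW in
theorem exists_point_of_prime (q : PrimeSpectrum Γ(X, W)) :
    ∃ (x : X) (hx : x ∈ W), hW.primeIdealOf ⟨x, hx⟩ = q := by
  have hmem : hW.fromSpec q ∈ W := by
    have : hW.fromSpec q ∈ Set.range hW.fromSpec := ⟨q, rfl⟩
    rw [hW.range_fromSpec] at this
    exact this
  refine ⟨hW.fromSpec q, hmem, ?_⟩
  have hinj : Function.Injective hW.fromSpec :=
    (hW.fromSpec.isOpenEmbedding).injective
  apply hinj
  rw [hW.fromSpec_primeIdealOf]

include hW in
theorem primeIdealOf_injective {x x' : X} (hx : x ∈ W) (hx' : x' ∈ W)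
    (h : hW.primeIdealOf ⟨x, hx⟩ = hW.primeIdealOf ⟨x', hx'⟩) : x = x' := by
  have h1 := hW.fromSpec_primeIdealOf ⟨x, hx⟩
  have h2 := hW.fromSpec_primeIdealOf ⟨x', hx'⟩
  rw [h] at h1
  exact h1.symm.trans h2

include hW in
theorem primeIdealOf_le_iff_specializes {x x' : X} (hx : x ∈ W) (hx' : x' ∈ W) :
    (hW.primeIdealOf ⟨x', hx'⟩).asIdeal ≤ (hW.primeIdealOf ⟨x, hx⟩).asIdeal ↔ x' ⤳ x := by
  constructor
  · intro hle
    rw [specializes_iff_forall_open]
    intro U hU hxU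
    obtain ⟨r, hrU, hxr⟩ := hW.exists_basicOpen_le (V := ⟨U, hU⟩) ⟨x, hxU⟩ hx
    have h1 : r ∈ (hW.primeIdealOf ⟨x, hx⟩).asIdeal.primeCompl :=
      (Groth.Agent.H8.mem_basicOpen_iff_notMem_primeIdealOf hW x hx r).mp hxr
    have h2 : r ∈ (hW.primeIdealOf ⟨x', hx'⟩).asIdeal.primeCompl := fun hr => h1 (hle hr)
    exact hrU ((Groth.Agent.H8.mem_basicOpen_iff_notMem_primeIdealOf hW x' hx' r).mpr h2)
  · intro hsp r hr
    by_contra hnot
    have h1 : x ∈ X.basicOpen r :=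
      (Groth.Agent.H8.mem_basicOpen_iff_notMem_primeIdealOf hW x hx r).mpr hnot
    have h2 : x' ∈ X.basicOpen r := hsp.mem_open (X.basicOpen r).2 h1
    exact (Groth.Agent.H8.mem_basicOpen_iff_notMem_primeIdealOf hW x' hx' r).mp h2 hr

/-- The ideal of sections whose basic open lies in `U`. -/
def basicOpenIdeal (W U : X.Opens) : Ideal Γ(X, W) where
  carrier := {b | X.basicOpen b ≤ U}
  add_mem' := by
    intro b b' hb hb' x hx
    have hxW : x ∈ W := X.basicOpen_le _ hx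
    rw [Scheme.mem_basicOpen _ _ _ hxW, map_add] at hx
    rcases IsLocalRing.isUnit_or_isUnit_of_isUnit_add hx with h | h
    · exact hb ((Scheme.mem_basicOpen _ _ _ hxW).mpr h)
    · exact hb' ((Scheme.mem_basicOpen _ _ _ hxW).mpr h)
  zero_mem' := by
    intro x hx
    have hxW : x ∈ W := X.basicOpen_le _ hx
    rw [Scheme.mem_basicOpen _ _ _ hxW, map_zero] at hx
    exact absurd hx not_isUnit_zero
  smul_mem' := by
    intro c b hb x hx
    have hxW : x ∈ W := X.basicOpen_le _ hx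
    rw [Scheme.mem_basicOpen _ _ _ hxW, smul_eq_mul, map_mul] at hx
    exact hb ((Scheme.mem_basicOpen _ _ _ hxW).mpr (isUnit_of_mul_isUnit_right hx))

include hW in
theorem basicOpenIdeal_le_iff (U : X.Opens) {x : X} (hx : x ∈ W) :
    basicOpenIdeal W U ≤ (hW.primeIdealOf ⟨x, hx⟩).asIdeal ↔ x ∉ U := by
  constructor
  · intro hle hxU
    obtain ⟨r, hrU, hxr⟩ := hW.exists_basicOpen_le (V := U) ⟨x, hxU⟩ hx
    have h1 : r ∈ (hW.primeIdealOf ⟨x, hx⟩).asIdeal.primeCompl :=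
      (Groth.Agent.H8.mem_basicOpen_iff_notMem_primeIdealOf hW x hx r).mp hxr
    exact h1 (hle hrU)
  · intro hxU b hb
    by_contra hnot
    exact hxU (hb ((Groth.Agent.H8.mem_basicOpen_iff_notMem_primeIdealOf hW x hx b).mpr hnot))

end Points

section Chart

variable (f : X ⟶ Y) (F : X.Modules) [F.IsQuasicoherent]

/-- Chart form of `FibAss`. -/
theorem fibAss_iff_socAt {V : Y.Opens} (hV : IsAffineOpen V) {W : X.Opens} (hW : IsAffineOpen W)
    (e : W ≤ f ⁻¹ᵁ V) (x : X) (hxW : x ∈ W) :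
    letI : Algebra Γ(Y, V) Γ(X, W) := (f.appLE V W e).hom.toAlgebra
    FibAss f F x ↔
      SocAt (fibI Γ(Y, V) (hW.primeIdealOf ⟨x, hxW⟩).asIdeal)
        (hW.primeIdealOf ⟨x, hxW⟩).asIdeal Γ(F, W) := by
  letI : Algebra Γ(Y, V) Γ(X, W) := (f.appLE V W e).hom.toAlgebra
  have hyV : f x ∈ V := e hxW
  letI : Algebra Γ(X, W) (X.presheaf.stalk x) := X.presheaf.algebra_section_stalk ⟨x, hxW⟩
  haveI := hW.isLocalization_stalk ⟨x, hxW⟩
  letI : Algebra Γ(Y, V) (Y.presheaf.stalk (f x)) := Y.presheaf.algebra_section_stalk ⟨f x, hyV⟩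
  haveI := hV.isLocalization_stalk ⟨f x, hyV⟩
  letI : Module Γ(X, W) (F.presheaf.stalk x) := Groth.Agent.H8.moduleSectionStalk F x hxW
  haveI : IsScalarTower Γ(X, W) (X.presheaf.stalk x) (F.presheaf.stalk x) :=
    Groth.Agent.H8.isScalarTower_sectionStalk F x hxW
  haveI := Groth.Agent.H8.isLocalizedModule_germₗ F hW x hxW
  have hI : Ideal.map (f.stalkMap x).hom (maximalIdeal (Y.presheaf.stalk (f x))) =
      (fibI Γ(Y, V) (hW.primeIdealOf ⟨x, hxW⟩).asIdeal).map
        (algebraMap Γ(X, W) (X.presheaf.stalk x)) := by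
    have hp : (hW.primeIdealOf ⟨x, hxW⟩).asIdeal.comap (algebraMap Γ(Y, V) Γ(X, W)) =
        (hV.primeIdealOf ⟨f x, hyV⟩).asIdeal :=
      congrArg PrimeSpectrum.asIdeal
        (IsAffineOpen.comap_primeIdealOf_appLE V hV W hW e hxW)
    have hm : maximalIdeal (Y.presheaf.stalk (f x)) =
        (hV.primeIdealOf ⟨f x, hyV⟩).asIdeal.map
          (algebraMap Γ(Y, V) (Y.presheaf.stalk (f x))) :=
      (IsLocalization.AtPrime.map_eq_maximalIdeal _ _).symm
    rw [fibI, hp, hm, Ideal.map_map, Ideal.map_map]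
    congr 1
    ext a
    exact stalkMap_germ_appLE f e x hxW a
  have key := exists_socle_iff_socAt (hW.primeIdealOf ⟨x, hxW⟩).asIdeal
    (fibI Γ(Y, V) (hW.primeIdealOf ⟨x, hxW⟩).asIdeal) (X.presheaf.stalk x)
    (Groth.Agent.H8.germₗ F x hxW)
  rw [← key, ← hI]
  rfl

/-- Chart form of the relative assassin. -/
theorem mem_relAss_iff_socAt [LocallyOfFiniteType f] {V : Y.Opens} (hV : IsAffineOpen V)
    {W : X.Opens} (hW : IsAffineOpen W) (e : W ≤ f ⁻¹ᵁ V) (x : X) (hxW : x ∈ W) :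
    letI : Algebra Γ(Y, V) Γ(X, W) := (f.appLE V W e).hom.toAlgebra
    x ∈ MoreMor.relAss f F ↔
      SocAt (fibI Γ(Y, V) (hW.primeIdealOf ⟨x, hxW⟩).asIdeal)
        (hW.primeIdealOf ⟨x, hxW⟩).asIdeal Γ(F, W) :=
  (mem_relAss_iff_fibAss f F x).trans (fibAss_iff_socAt f F hV hW e x hxW)

end Chart

end Groth.Agent.H57.RelAssGen
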