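import Mathlib
import Groth.Agent.H57.RelAssGen.Chart

/-!
# Chart-level statement for S1368 (helper57)
-/

set_option autoImplicit false
set_option linter.style.haveILetI false

universe u

open AlgebraicGeometry CategoryTheory Limits TopologicalSpace IsLocalRing

namespace Groth.Agent.H57.RelAssGen

variable {X Y : Scheme.{u}}

/-- `f x ∈ D(a)` means that the image of `a` is not in the prime of `x`. -/
theorem algebraMap_notMem_of_mem_basicOpen (f : X ⟶ Y) {V : Y.Opens} {W : X.Opens}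
    (hW : IsAffineOpen W) (e : W ≤ f ⁻¹ᵁ V) (x : X) (hxW : x ∈ W) (a : Γ(Y, V))
    (hfx : f x ∈ Y.basicOpen a) :
    (f.appLE V W e).hom a ∉ (hW.primeIdealOf ⟨x, hxW⟩).asIdeal := by
  have hyV : f x ∈ V := e hxW
  have h1 : x ∈ X.basicOpen ((f.appLE V W e).hom a) := by
    rw [Scheme.mem_basicOpen _ _ _ hxW, ← stalkMap_germ_appLE f e x hxW a]
    exact ((Scheme.mem_basicOpen _ _ _ hyV).mp hfx).map (f.stalkMap x).hom
  exact (Groth.Agent.H8.mem_basicOpen_iff_notMem_primeIdealOf hW x hxW _).mp h1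

theorem comap_primeIdealOf_asIdeal (f : X ⟶ Y) {V : Y.Opens} (hV : IsAffineOpen V) {W : X.Opens}
    (hW : IsAffineOpen W) (e : W ≤ f ⁻¹ᵁ V) (x : X) (hxW : x ∈ W) :
    (hW.primeIdealOf ⟨x, hxW⟩).asIdeal.comap (f.appLE V W e).hom =
      (hV.primeIdealOf ⟨f x, e hxW⟩).asIdeal :=
  congrArg PrimeSpectrum.asIdeal (IsAffineOpen.comap_primeIdealOf_appLE V hV W hW e hxW)

theorem chart_avoid (f : X ⟶ Y) [LocallyOfFiniteType f] (F : X.Modules) (hF : Coh.IsCoh F)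
    (U : X.Opens) {V₀ : Y.Opens} (hV₀ : IsAffineOpen V₀) (η : Y) (hηV₀ : η ∈ V₀)
    (hη : ∀ y ∈ V₀, η ⤳ y)
    (h : ∀ x ∈ MoreMor.relAss f F, f x = η → x ∈ U)
    {W : X.Opens} (hW : IsAffineOpen W) (e : W ≤ f ⁻¹ᵁ V₀) :
    ∃ a : Γ(Y, V₀), a ∉ (hV₀.primeIdealOf ⟨η, hηV₀⟩).asIdeal ∧
      ∀ x ∈ MoreMor.relAss f F, x ∈ W → f x ∈ Y.basicOpen a → x ∈ U := by
  haveI : F.IsQuasicoherent := hF.1
  letI : Algebra Γ(Y, V₀) Γ(X, W) := (f.appLE V₀ W e).hom.toAlgebra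
  haveI : Algebra.FiniteType Γ(Y, V₀) Γ(X, W) := f.finiteType_appLE hV₀ hW e
  letI : Module Γ(Y, V₀) Γ(F, W) := Module.compHom _ (f.appLE V₀ W e).hom
  haveI : IsScalarTower Γ(Y, V₀) Γ(X, W) Γ(F, W) :=
    IsScalarTower.of_algebraMap_smul fun r m => rfl
  haveI : Module.Finite Γ(X, W) Γ(F, W) := Groth.Agent.H8.finite_sections_of_isCoh F hF hW
  obtain ⟨a, ha, hconc⟩ := gen_avoid (A₀ := Γ(Y, V₀)) (B := Γ(X, W)) (M := Γ(F, W))
    (hV₀.primeIdealOf ⟨η, hηV₀⟩).asIdeal (basicOpenIdeal W U) (by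
      intro q hqprime hqcomap hsoc
      obtain ⟨x, hxW, hxq⟩ := exists_point_of_prime hW ⟨q, hqprime⟩
      have hqe : q = (hW.primeIdealOf ⟨x, hxW⟩).asIdeal := by rw [hxq]
      subst hqe
      have hx : x ∈ MoreMor.relAss f F := (mem_relAss_iff_socAt f F hV₀ hW e x hxW).mpr hsoc
      have hfx : f x = η :=
        primeIdealOf_injective hV₀ (e hxW) hηV₀
          (PrimeSpectrum.ext ((comap_primeIdealOf_asIdeal f hV₀ hW e x hxW).symm.trans hqcomap))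
      have hxU := h x hx hfx
      exact fun hle => (basicOpenIdeal_le_iff hW U hxW).mp hle hxU)
  refine ⟨a, ha, fun x hx hxW hfx => ?_⟩
  by_contra hxU
  have hsoc := (mem_relAss_iff_socAt f F hV₀ hW e x hxW).mp hx
  refine hconc _ (hW.primeIdealOf ⟨x, hxW⟩).isPrime ?_ ?_ hsoc
    ((basicOpenIdeal_le_iff hW U hxW).mpr hxU)
  · have hq := comap_primeIdealOf_asIdeal f hV₀ hW e x hxW
    change _ ≤ (hW.primeIdealOf ⟨x, hxW⟩).asIdeal.comap (f.appLE V₀ W e).hom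
    rw [hq]
    exact (primeIdealOf_le_iff_specializes hV₀ (e hxW) hηV₀).mpr (hη _ (e hxW))
  · exact algebraMap_notMem_of_mem_basicOpen f hW e x hxW a hfx

end Groth.Agent.H57.RelAssGen
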