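import Mathlib
import Groth.Agent.H57.RelAssGen.RowAvoid
import Groth.Agent.H57.RelAssGen.StmtsG2

/-!
# Chart-level statement for S1369 / S1446 (helper57)
-/

set_option autoImplicit false
set_option linter.style.haveILetI false

universe u

open AlgebraicGeometry CategoryTheory Limits TopologicalSpace IsLocalRing

namespace Groth.Agent.H57.RelAssGen

variable {X Y : Scheme.{u}}

theorem chart_generic (f : X ⟶ Y) [LocallyOfFiniteType f] (F : X.Modules) (hF : Coh.IsCoh F)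
    {V₀ : Y.Opens} (hV₀ : IsAffineOpen V₀) {W : X.Opens} (hW : IsAffineOpen W)
    (e : W ≤ f ⁻¹ᵁ V₀) (ξ : X) (hξW : ξ ∈ W) (hξ : ξ ∈ MoreMor.relAss f F) :
    ∃ a : Γ(Y, V₀), f ξ ∈ Y.basicOpen a ∧
      (∀ x : X, x ∈ W → ξ ⤳ x → f x ∈ Y.basicOpen a →
        (∀ x' : X, x' ∈ W → ξ ⤳ x' → x' ⤳ x → f x' = f x → x' = x) →
          x ∈ MoreMor.relAss f F) ∧
      (∀ y : Y, y ∈ Y.basicOpen a → f ξ ⤳ y →
        ∃ x : X, x ∈ W ∧ ξ ⤳ x ∧ f x = y ∧ x ∈ MoreMor.relAss f F) := by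
  haveI : F.IsQuasicoherent := hF.1
  letI : Algebra Γ(Y, V₀) Γ(X, W) := (f.appLE V₀ W e).hom.toAlgebra
  haveI : Algebra.FiniteType Γ(Y, V₀) Γ(X, W) := f.finiteType_appLE hV₀ hW e
  letI : Module Γ(Y, V₀) Γ(F, W) := Module.compHom _ (f.appLE V₀ W e).hom
  haveI : IsScalarTower Γ(Y, V₀) Γ(X, W) Γ(F, W) :=
    IsScalarTower.of_algebraMap_smul fun r m => rfl
  haveI : Module.Finite Γ(X, W) Γ(F, W) := Groth.Agent.H8.finite_sections_of_isCoh F hF hW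
  have hq₀ : (hW.primeIdealOf ⟨ξ, hξW⟩).asIdeal.comap (algebraMap Γ(Y, V₀) Γ(X, W)) =
      (hV₀.primeIdealOf ⟨f ξ, e hξW⟩).asIdeal := comap_primeIdealOf_asIdeal f hV₀ hW e ξ hξW
  obtain ⟨a, ha, h1, h2⟩ := gen_generic (A₀ := Γ(Y, V₀)) (B := Γ(X, W)) (M := Γ(F, W))
    (hV₀.primeIdealOf ⟨f ξ, e hξW⟩).asIdeal (hW.primeIdealOf ⟨ξ, hξW⟩).asIdeal hq₀
    ((mem_relAss_iff_socAt f F hV₀ hW e ξ hξW).mp hξ)
  refine ⟨a, (Groth.Agent.H8.mem_basicOpen_iff_notMem_primeIdealOf hV₀ (f ξ) (e hξW) a).mpr ha,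
    ?_, ?_⟩
  · intro x hxW hsp hfx hmin
    apply (mem_relAss_iff_socAt f F hV₀ hW e x hxW).mpr
    refine h1 _ (hW.primeIdealOf ⟨x, hxW⟩).isPrime
      ((primeIdealOf_le_iff_specializes hW hxW hξW).mpr hsp)
      (algebraMap_notMem_of_mem_basicOpen f hW e x hxW a hfx) ?_
    intro q' hq'prime hq₀q' hq'q hcomap
    obtain ⟨x', hx'W, hx'q⟩ := exists_point_of_prime hW ⟨q', hq'prime⟩
    have hqe : q' = (hW.primeIdealOf ⟨x', hx'W⟩).asIdeal := by rw [hx'q]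
    subst hqe
    have hfx' : f x' = f x := by
      apply primeIdealOf_injective hV₀ (e hx'W) (e hxW)
      apply PrimeSpectrum.ext
      rw [← comap_primeIdealOf_asIdeal f hV₀ hW e x' hx'W,
        ← comap_primeIdealOf_asIdeal f hV₀ hW e x hxW]
      exact hcomap
    have hxx : x' = x := hmin x' hx'W
      ((primeIdealOf_le_iff_specializes hW hx'W hξW).mp hq₀q')
      ((primeIdealOf_le_iff_specializes hW hxW hx'W).mp hq'q) hfx'
    subst hxx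
    rfl
  · intro y hya hsp
    have hyV₀ : y ∈ V₀ := Y.basicOpen_le a hya
    obtain ⟨q, hqprime, hq₀q, hqcomap, hsoc⟩ := h2 (hV₀.primeIdealOf ⟨y, hyV₀⟩).asIdeal
      (hV₀.primeIdealOf ⟨y, hyV₀⟩).isPrime
      ((primeIdealOf_le_iff_specializes hV₀ hyV₀ (e hξW)).mpr hsp)
      ((Groth.Agent.H8.mem_basicOpen_iff_notMem_primeIdealOf hV₀ y hyV₀ a).mp hya)
    obtain ⟨x, hxW, hxq⟩ := exists_point_of_prime hW ⟨q, hqprime⟩
    have hqe : q = (hW.primeIdealOf ⟨x, hxW⟩).asIdeal := by rw [hxq]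
    subst hqe
    refine ⟨x, hxW, (primeIdealOf_le_iff_specializes hW hxW hξW).mp hq₀q, ?_,
      (mem_relAss_iff_socAt f F hV₀ hW e x hxW).mpr hsoc⟩
    apply primeIdealOf_injective hV₀ (e hxW) hyV₀
    apply PrimeSpectrum.ext
    rw [← comap_primeIdealOf_asIdeal f hV₀ hW e x hxW]
    exact hqcomap

end Groth.Agent.H57.RelAssGen
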